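import Mathlib
import Groth.Agent.Lib.OrdHens1.Cone
import Groth.Agent.Lib.Hensel.Local
import Groth.Agent.Lib.Hensel.Properties
import Groth.Agent.S13598
import Groth.Agent.S0505
import Groth.Agent.S0506
import Groth.Agent.S0511

/-!
# Henselizations of local rings essentially of finite type, and finite local homomorphisms
-/

set_option autoImplicit false
set_option linter.style.haveILetI false

universe u

open IsLocalRing

namespace GrothLib.HensEFT4

variable (A : Type u) [CommRing A]

/-- `S` is a henselization of a local `A`-algebra essentially of finite type. -/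
def HEFT (S : Type u) [CommRing S] [IsLocalRing S] [Algebra A S] : Prop :=
  ∃ (L : Type u) (_ : CommRing L) (_ : IsLocalRing L) (_ : Algebra A L) (_ : Algebra.EssFiniteType A L)
    (_ : Algebra L S) (_ : IsScalarTower A L S) (_ : IsLocalHom (algebraMap L S)),
    Hensel.IsHenselization L S

variable {A}

/-- A local algebra essentially of finite type is the local ring of a finite type algebra. -/
theorem exists_atPrime {S : Type u} [CommRing S] [IsLocalRing S] [Algebra A S] (h : HEFT A S) :
    ∃ (B : Type u) (_ : CommRing B) (_ : Algebra A B) (_ : Algebra.FiniteType A B) (p : Ideal B) (_ : p.IsPrime)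
      (_ : Algebra (Localization.AtPrime p) S) (_ : IsScalarTower A (Localization.AtPrime p) S)
      (_ : IsLocalHom (algebraMap (Localization.AtPrime p) S)),
      Hensel.IsHenselization (Localization.AtPrime p) S := by
  obtain ⟨L, _, _, _, _, _, _, _, hL⟩ := h
  let B := Algebra.EssFiniteType.subalgebra A L
  let q := (maximalIdeal L).comap (algebraMap B L)
  haveI : q.IsPrime := Ideal.IsPrime.comap _
  have hsub : Algebra.EssFiniteType.submonoid A L = q.primeCompl := by
    ext x
    show IsUnit (algebraMap B L x) ↔ algebraMap B L x ∉ maximalIdeal L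
    exact notMem_maximalIdeal.symm
  haveI : IsLocalization.AtPrime L q := by
    show IsLocalization q.primeCompl L
    rw [← hsub]; infer_instance
  let e : Localization.AtPrime q ≃ₐ[B] L := IsLocalization.algEquiv q.primeCompl _ _
  letI : Algebra (Localization.AtPrime q) S := ((algebraMap L S).comp e.toRingEquiv.toRingHom).toAlgebra
  have key : ∀ x, algebraMap (Localization.AtPrime q) S x = algebraMap L S (e x) := fun _ ↦ rfl
  haveI : IsScalarTower A (Localization.AtPrime q) S := .of_algebraMap_eq fun a ↦ by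
    rw [key, IsScalarTower.algebraMap_apply A B (Localization.AtPrime q), e.commutes,
      ← IsScalarTower.algebraMap_apply A B L, ← IsScalarTower.algebraMap_apply A L S]
  haveI : IsLocalHom (algebraMap (Localization.AtPrime q) S) := ⟨fun x hx ↦ by
    rw [key] at hx
    have h1 : IsUnit (e x) := hx.of_map
    simpa using h1.map e.symm⟩
  refine ⟨B, inferInstance, inferInstance, inferInstance, q, inferInstance, inferInstance, inferInstance,
    inferInstance, hL.henselian, fun T _ _ f hf ↦ ?_⟩
  haveI := hf
  have hloc : IsLocalHom (f.comp e.symm.toRingEquiv.toRingHom) := ⟨fun x hx ↦ by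
    have h1 : IsUnit (e.symm x) := IsUnit.of_map f _ hx
    simpa using h1.map e⟩
  obtain ⟨g, hg, hu⟩ := hL.universal T (f.comp e.symm.toRingEquiv.toRingHom) hloc
  refine ⟨g, RingHom.ext fun x ↦ ?_, fun g' hg' ↦ hu g' (RingHom.ext fun x ↦ ?_)⟩
  · show g (algebraMap L S (e x)) = f x
    rw [show g (algebraMap L S (e x)) = f (e.symm (e x)) from RingHom.congr_fun hg (e x), e.symm_apply_apply]
  · show g' (algebraMap L S x) = f (e.symm x)
    rw [← show g' (algebraMap L S (e (e.symm x))) = f (e.symm x) from RingHom.congr_fun hg' (e.symm x),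
      e.apply_symm_apply]

theorem of_atPrime {S : Type u} [CommRing S] [IsLocalRing S] [Algebra A S]
    (h : ∃ (B : Type u) (_ : CommRing B) (_ : Algebra A B) (_ : Algebra.FiniteType A B) (p : Ideal B) (_ : p.IsPrime)
      (_ : Algebra (Localization.AtPrime p) S) (_ : IsScalarTower A (Localization.AtPrime p) S)
      (_ : IsLocalHom (algebraMap (Localization.AtPrime p) S)),
      Hensel.IsHenselization (Localization.AtPrime p) S) : HEFT A S := by
  obtain ⟨B, _, _, _, p, _, _, _, _, hB⟩ := h
  haveI : Algebra.EssFiniteType B (Localization.AtPrime p) :=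
    Algebra.EssFiniteType.of_isLocalization _ p.primeCompl
  haveI : Algebra.EssFiniteType A (Localization.AtPrime p) := Algebra.EssFiniteType.comp A B _
  exact ⟨Localization.AtPrime p, inferInstance, inferInstance, inferInstance, inferInstance, inferInstance,
    inferInstance, inferInstance, hB⟩

/-- The henselization map induced by a local homomorphism is local. -/
theorem isLocalHom_lift {L S T : Type u} [CommRing L] [IsLocalRing L] [CommRing S] [IsLocalRing S]
    [Algebra L S] [IsLocalHom (algebraMap L S)] [Hensel.IsHenselization L S] [CommRing T] [IsLocalRing T]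
    (f : L →+* T) [IsLocalHom f] (g : S →+* T) (hg : g.comp (algebraMap L S) = f) : IsLocalHom g := by
  constructor
  intro y hy
  by_contra hyu
  have hym : y ∈ maximalIdeal S := hyu
  have hy' : y ∈ (maximalIdeal L).map (algebraMap L S) := by
    rw [GrothLib.Hensel.IsHenselization.map_maximalIdeal]; exact hym
  have h2 : ((maximalIdeal L).map (algebraMap L S)).map g ≤ maximalIdeal T := by
    rw [Ideal.map_map, hg]
    exact GrothLib.Hensel.map_le_maximalIdeal_of_isLocalHom ‹_›
  exact h2 (Ideal.mem_map_of_mem g hy') hy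

/-- A quotient of a henselization of a local ring essentially of finite type is one. -/
theorem of_surjective [IsNoetherianRing A] {S T : Type u} [CommRing S] [IsLocalRing S] [Algebra A S]
    [CommRing T] [IsLocalRing T] [Algebra A T] (h : HEFT A S) (ψ : S →ₐ[A] T) (hψ : Function.Surjective ψ) :
    HEFT A T := by
  classical
  obtain ⟨L, _, _, _, _, _, _, _, hL⟩ := h
  haveI : IsNoetherianRing L := Algebra.EssFiniteType.isNoetherianRing A L
  haveI : IsNoetherianRing S := (Groth.Agent.S0511.result L S).1 inferInstance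
  obtain ⟨gens, hgens⟩ := IsNoetherian.noetherian (RingHom.ker ψ.toRingHom)
  obtain ⟨e⟩ := GrothLib.Hensel.IsHenselization.nonempty_hens_algEquiv (R := L) (S := S)
  obtain ⟨N, b, hb⟩ := GrothLib.Hensel.Hull.exists_ι_family (fun i : gens ↦ e.symm (i : S))
  have hφ : ∀ x, N.pt x = 0 ↔ (e.toAlgHom.comp (GrothLib.Hensel.Hull.ι N)) x ∈ maximalIdeal S := fun x ↦ by
    have h1 : IsUnit (e (GrothLib.Hensel.Hull.ι N x)) ↔ IsUnit (GrothLib.Hensel.Hull.ι N x) :=
      ⟨fun h ↦ by simpa using h.map e.symm, fun h ↦ h.map e⟩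
    rw [IsLocalRing.mem_maximalIdeal, mem_nonunits_iff, AlgHom.comp_apply, AlgEquiv.coe_toAlgHom, h1,
      GrothLib.Hensel.FieldHull.isUnit_iff, not_not, GrothLib.Hensel.Hull.proj_ι]
  obtain ⟨R', _, _, _, _, l, h1, h2, h3, h4, h5, h6, h7, hl⟩ :=
    GrothLib.OrdHens1.exists_local_nbhd N.pt _ hφ
  have hup : Hensel.IsHenselization R' S := GrothLib.OrdHens1.henselization_up h7 S
  letI : Algebra A R' := ((algebraMap L R').comp (algebraMap A L)).toAlgebra
  haveI : IsScalarTower A L R' := .of_algebraMap_eq fun _ ↦ rfl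
  haveI : IsScalarTower A R' S := .of_algebraMap_eq fun a ↦ by
    rw [IsScalarTower.algebraMap_apply A L R', ← IsScalarTower.algebraMap_apply L R' S,
      ← IsScalarTower.algebraMap_apply A L S]
  haveI : Algebra.EssFiniteType A R' := Algebra.EssFiniteType.comp A L R'
  let I : Ideal R' := Ideal.span (Set.range fun i ↦ l (b i))
  have hIS : I.map (algebraMap R' S) = RingHom.ker ψ.toRingHom := by
    rw [Ideal.map_span, ← hgens]
    congr 1
    rw [← Set.range_comp]
    ext x
    constructor
    · rintro ⟨i, rfl⟩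
      show algebraMap R' S (l (b i)) ∈ (gens : Set S)
      rw [hl, AlgHom.comp_apply, hb i, AlgEquiv.coe_toAlgHom, e.apply_symm_apply]
      exact i.2
    · intro hx
      refine ⟨⟨x, hx⟩, ?_⟩
      show algebraMap R' S (l (b ⟨x, hx⟩)) = x
      rw [hl, AlgHom.comp_apply, hb ⟨x, hx⟩, AlgEquiv.coe_toAlgHom, e.apply_symm_apply]
  have hne : RingHom.ker ψ.toRingHom ≠ ⊤ := RingHom.ker_ne_top _
  have hI : I ≤ maximalIdeal R' := by
    intro x hx
    rw [IsLocalRing.mem_maximalIdeal, mem_nonunits_iff]
    intro hu
    exact hne (Ideal.eq_top_of_isUnit_mem _ (hIS ▸ Ideal.mem_map_of_mem _ hx) (hu.map _))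
  haveI : Nontrivial (R' ⧸ I) := Ideal.Quotient.nontrivial_iff.2 fun ht ↦
    (maximalIdeal.isMaximal R').ne_top (top_le_iff.1 (ht ▸ hI))
  haveI : IsLocalRing (R' ⧸ I) := IsLocalRing.of_surjective' _ Ideal.Quotient.mk_surjective
  haveI : Nontrivial (S ⧸ I.map (algebraMap R' S)) := Ideal.Quotient.nontrivial_iff.2 (hIS ▸ hne)
  haveI : IsLocalRing (S ⧸ I.map (algebraMap R' S)) :=
    IsLocalRing.of_surjective' _ Ideal.Quotient.mk_surjective
  haveI : IsLocalHom (algebraMap (R' ⧸ I) (S ⧸ I.map (algebraMap R' S))) := ⟨fun x hx ↦ by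
    obtain ⟨r, rfl⟩ := Ideal.Quotient.mk_surjective x
    have h8 : IsUnit (Ideal.Quotient.mk (I.map (algebraMap R' S)) (algebraMap R' S r)) := hx
    haveI : IsLocalHom (Ideal.Quotient.mk (I.map (algebraMap R' S))) :=
      IsLocalHom.of_surjective _ Ideal.Quotient.mk_surjective
    exact (h8.of_map.of_map).map _⟩
  have hq := Groth.Agent.S13598.result (A := R') (S := S) I hI
  let ε₀ : S ⧸ I.map (algebraMap R' S) ≃+* T :=
    (Ideal.quotEquivOfEq hIS).trans (RingHom.quotientKerEquivOfSurjective hψ)
  have hε : ∀ x, ε₀ (Ideal.Quotient.mk _ x) = ψ x := fun x ↦ rfl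
  letI : Algebra (R' ⧸ I) T :=
    (ε₀.toRingHom.comp (algebraMap (R' ⧸ I) (S ⧸ I.map (algebraMap R' S)))).toAlgebra
  have key : ∀ x, algebraMap (R' ⧸ I) T x = ε₀ (algebraMap (R' ⧸ I) (S ⧸ I.map (algebraMap R' S)) x) :=
    fun _ ↦ rfl
  haveI : IsScalarTower A (R' ⧸ I) T := .of_algebraMap_eq fun a ↦ by
    rw [key]
    show _ = ε₀ (Ideal.Quotient.mk _ (algebraMap R' S (algebraMap A R' a)))
    rw [hε, ← IsScalarTower.algebraMap_apply, AlgHom.commutes]
  haveI : IsLocalHom (algebraMap (R' ⧸ I) T) := ⟨fun x hx ↦ by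
    rw [key] at hx
    have h8 := hx.map ε₀.symm
    rw [ε₀.symm_apply_apply] at h8
    exact h8.of_map⟩
  haveI : Algebra.EssFiniteType R' (R' ⧸ I) := inferInstance
  haveI : Algebra.EssFiniteType A (R' ⧸ I) := Algebra.EssFiniteType.comp A R' _
  refine ⟨R' ⧸ I, inferInstance, inferInstance, inferInstance, inferInstance, inferInstance, inferInstance,
    inferInstance, ?_, fun U _ _ f hf ↦ ?_⟩
  · haveI := hq.henselian
    letI : Algebra (S ⧸ I.map (algebraMap R' S)) T := ε₀.toRingHom.toAlgebra
    haveI : Module.Finite (S ⧸ I.map (algebraMap R' S)) T :=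
      Module.Finite.of_surjective (Algebra.linearMap _ T) ε₀.surjective
    exact Groth.Agent.S0505.result (S ⧸ I.map (algebraMap R' S)) T
  · obtain ⟨g, hg, hu⟩ := hq.universal U f hf
    refine ⟨g.comp ε₀.symm.toRingHom, RingHom.ext fun x ↦ ?_, fun g' hg' ↦ ?_⟩
    · show g (ε₀.symm (algebraMap (R' ⧸ I) T x)) = f x
      rw [key, ε₀.symm_apply_apply]
      exact RingHom.congr_fun hg x
    · have := hu (g'.comp ε₀.toRingHom) (RingHom.ext fun x ↦ RingHom.congr_fun hg' x)
      rw [← this]
      exact RingHom.ext fun x ↦ by simp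

/-- A finite local algebra over a henselization of a local ring essentially of finite type is one. -/
theorem of_finite [IsNoetherianRing A] {S T : Type u} [CommRing S] [IsLocalRing S] [Algebra A S]
    [CommRing T] [HenselianLocalRing T] [Algebra A T] (φ : S →ₐ[A] T) [IsLocalHom φ.toRingHom]
    (hfin : φ.toRingHom.Finite) (h : HEFT A S) : HEFT A T := by
  classical
  obtain ⟨L, _, _, _, _, _, _, _, hL⟩ := h
  letI : Algebra S T := φ.toRingHom.toAlgebra
  haveI : Module.Finite S T := hfin
  letI : Algebra L T := (φ.toRingHom.comp (algebraMap L S)).toAlgebra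
  have hLT : ∀ x, algebraMap L T x = φ (algebraMap L S x) := fun _ ↦ rfl
  haveI : IsScalarTower A L T := .of_algebraMap_eq fun a ↦ by
    rw [hLT, ← IsScalarTower.algebraMap_apply, AlgHom.commutes]
  haveI : IsLocalHom (algebraMap L T) := ⟨fun x hx ↦ by
    have h1 : IsUnit (φ.toRingHom (algebraMap L S x)) := hx
    exact h1.of_map.of_map⟩
  obtain ⟨xs, hxs⟩ := Module.Finite.fg_top (R := S) (M := T)
  let C : Subalgebra L T := Algebra.adjoin L (xs : Set T)
  haveI : Algebra.FiniteType L C := C.fg_iff_finiteType.1 ⟨xs, rfl⟩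
  let q : Ideal C := (maximalIdeal T).comap (algebraMap C T)
  haveI : q.IsPrime := Ideal.IsPrime.comap _
  haveI : Algebra.EssFiniteType C (Localization.AtPrime q) :=
    Algebra.EssFiniteType.of_isLocalization _ q.primeCompl
  haveI : Algebra.EssFiniteType L (Localization.AtPrime q) := Algebra.EssFiniteType.comp L C _
  haveI : Algebra.EssFiniteType A (Localization.AtPrime q) := Algebra.EssFiniteType.comp A L _
  let j : Localization.AtPrime q →+* T := IsLocalization.lift (M := q.primeCompl) (g := algebraMap C T)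
    fun y ↦ notMem_maximalIdeal.1 y.2
  have hj : ∀ c, j (algebraMap C (Localization.AtPrime q) c) = algebraMap C T c :=
    fun c ↦ IsLocalization.lift_eq _ c
  haveI : IsLocalHom j := ⟨fun x hx ↦ by
    obtain ⟨⟨a, s⟩, hs⟩ := IsLocalization.surj q.primeCompl x
    have h1 : IsUnit (j (algebraMap C _ a)) := by
      rw [← hs, map_mul]
      exact IsUnit.mul hx ((IsLocalization.map_units _ s).map j)
    rw [hj] at h1
    have h2 : IsUnit (algebraMap C (Localization.AtPrime q) a) :=
      (IsLocalization.AtPrime.isUnit_to_map_iff _ q a).2 fun ha ↦ ha h1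
    rw [← hs] at h2
    exact isUnit_of_mul_isUnit_left h2⟩
  obtain ⟨S₁, _, _, _, _, hS₁⟩ := Groth.Agent.S0506.result (Localization.AtPrime q)
  obtain ⟨g, hg, -⟩ := hS₁.universal T j inferInstance
  haveI : IsLocalHom g := isLocalHom_lift j g hg
  have hgj : ∀ x, g (algebraMap _ S₁ x) = j x := fun x ↦ RingHom.congr_fun hg x
  letI : Algebra A S₁ :=
    ((algebraMap (Localization.AtPrime q) S₁).comp (algebraMap A (Localization.AtPrime q))).toAlgebra
  haveI : IsScalarTower A (Localization.AtPrime q) S₁ := .of_algebraMap_eq fun _ ↦ rfl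
  let G : S₁ →ₐ[A] T :=
    { g with
      commutes' := fun a ↦ by
        show g (algebraMap (Localization.AtPrime q) S₁ (algebraMap A _ a)) = algebraMap A T a
        rw [hgj, IsScalarTower.algebraMap_apply A C (Localization.AtPrime q), hj,
          ← IsScalarTower.algebraMap_apply] }
  refine of_surjective ⟨Localization.AtPrime q, inferInstance, inferInstance, inferInstance, inferInstance,
    inferInstance, inferInstance, inferInstance, hS₁⟩ G ?_
  haveI := hS₁.henselian
  haveI : IsLocalRing g.range := IsLocalRing.of_surjective' g.rangeRestrict g.rangeRestrict_surjective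
  haveI : HenselianLocalRing g.range := by
    letI : Algebra S₁ g.range := g.rangeRestrict.toAlgebra
    haveI : Module.Finite S₁ g.range :=
      Module.Finite.of_surjective (Algebra.linearMap _ g.range) g.rangeRestrict_surjective
    exact Groth.Agent.S0505.result S₁ g.range
  have hu : ∀ x : g.range, IsUnit (x : T) → IsUnit x := fun x hx ↦ by
    obtain ⟨y, hy⟩ := g.rangeRestrict_surjective x
    have h1 : IsUnit (g y) := by rw [← hy] at hx; exact hx
    exact hy ▸ h1.of_map.map g.rangeRestrict
  let f : L →+* g.range :=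
    g.rangeRestrict.comp ((algebraMap (Localization.AtPrime q) S₁).comp (algebraMap L (Localization.AtPrime q)))
  have hf : ∀ x, ((f x : g.range) : T) = algebraMap L T x := fun x ↦ by
    show g (algebraMap _ S₁ (algebraMap L (Localization.AtPrime q) x)) = _
    rw [hgj, IsScalarTower.algebraMap_apply L C (Localization.AtPrime q), hj,
      ← IsScalarTower.algebraMap_apply]
  haveI : IsLocalHom f := ⟨fun x hx ↦ by
    have h1 : IsUnit ((f x : g.range) : T) := hx.map g.range.subtype
    rw [hf] at h1
    exact h1.of_map⟩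
  obtain ⟨k, hk, -⟩ := hL.universal g.range f inferInstance
  haveI : IsLocalHom (φ.toRingHom.comp (algebraMap L S)) := ‹IsLocalHom (algebraMap L T)›
  have hkφ : g.range.subtype.comp k = φ.toRingHom := by
    obtain ⟨k₀, -, huniq⟩ := hL.universal T (φ.toRingHom.comp (algebraMap L S)) inferInstance
    rw [huniq φ.toRingHom rfl]
    refine huniq _ (RingHom.ext fun x ↦ ?_)
    show ((k (algebraMap L S x) : g.range) : T) = _
    rw [show k (algebraMap L S x) = f x from RingHom.congr_fun hk x, hf]
    rfl
  have hall : ∀ t : T, t ∈ g.range := fun t ↦ by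
    have ht : t ∈ Submodule.span S (xs : Set T) := hxs.ge Submodule.mem_top
    induction ht using Submodule.span_induction with
    | mem x hx =>
      exact ⟨algebraMap _ S₁ (algebraMap C _ (⟨x, Algebra.subset_adjoin hx⟩ : C)), by rw [hgj, hj]; rfl⟩
    | zero => exact zero_mem _
    | add x y _ _ h1 h2 => exact add_mem h1 h2
    | smul c x _ h1 =>
      rw [Algebra.smul_def]
      refine mul_mem ?_ h1
      show φ.toRingHom c ∈ g.range
      rw [← hkφ]
      exact (k c).2
  intro t
  exact hall t

/-- Conversely, for an injective finite local homomorphism. -/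
theorem of_finite_injective [IsNoetherianRing A] {S T : Type u} [CommRing S] [HenselianLocalRing S] [Algebra A S]
    [CommRing T] [HenselianLocalRing T] [Algebra A T] (φ : S →ₐ[A] T) [IsLocalHom φ.toRingHom]
    (hfin : φ.toRingHom.Finite) (hinj : Function.Injective φ) (h : HEFT A T) : HEFT A S := by
  classical
  obtain ⟨L₁, _, _, _, _, _, _, _, hL₁⟩ := h
  let s₀ := Algebra.EssFiniteType.finset A L₁
  let s : Finset T := s₀.image (algebraMap L₁ T)
  choose P hPm hP using fun x : T ↦ hfin.to_isIntegral x
  let cf : Finset S := s.biUnion fun x ↦ (Finset.range ((P x).natDegree + 1)).image (P x).coeff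
  let B : Subalgebra A S := Algebra.adjoin A (cf : Set S)
  haveI : Algebra.FiniteType A B := B.fg_iff_finiteType.1 ⟨cf, rfl⟩
  let p : Ideal B := (maximalIdeal S).comap (algebraMap B S)
  haveI : p.IsPrime := Ideal.IsPrime.comap _
  haveI : Algebra.EssFiniteType B (Localization.AtPrime p) :=
    Algebra.EssFiniteType.of_isLocalization _ p.primeCompl
  haveI : Algebra.EssFiniteType A (Localization.AtPrime p) := Algebra.EssFiniteType.comp A B _
  let j : Localization.AtPrime p →+* S := IsLocalization.lift (M := p.primeCompl) (g := algebraMap B S)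
    fun y ↦ notMem_maximalIdeal.1 y.2
  have hj : ∀ c, j (algebraMap B (Localization.AtPrime p) c) = algebraMap B S c :=
    fun c ↦ IsLocalization.lift_eq _ c
  haveI : IsLocalHom j := ⟨fun x hx ↦ by
    obtain ⟨⟨a, t⟩, ht⟩ := IsLocalization.surj p.primeCompl x
    have h1 : IsUnit (j (algebraMap B _ a)) := by
      rw [← ht, map_mul]
      exact IsUnit.mul hx ((IsLocalization.map_units _ t).map j)
    rw [hj] at h1
    have h2 : IsUnit (algebraMap B (Localization.AtPrime p) a) :=
      (IsLocalization.AtPrime.isUnit_to_map_iff _ p a).2 fun ha ↦ ha h1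
    rw [← ht] at h2
    exact isUnit_of_mul_isUnit_left h2⟩
  obtain ⟨H, _, _, _, _, hH⟩ := Groth.Agent.S0506.result (Localization.AtPrime p)
  obtain ⟨h₀, hh₀, -⟩ := hH.universal S j inferInstance
  haveI : IsLocalHom h₀ := isLocalHom_lift j h₀ hh₀
  haveI := hH.henselian
  haveI : IsNoetherianRing B := Algebra.FiniteType.isNoetherianRing A B
  haveI : IsNoetherianRing (Localization.AtPrime p) := IsLocalization.isNoetherianRing p.primeCompl _ inferInstance
  haveI : IsNoetherianRing H := (Groth.Agent.S0511.result (Localization.AtPrime p) H).1 inferInstance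
  have hh₀j : ∀ x, h₀ (algebraMap _ H x) = j x := fun x ↦ RingHom.congr_fun hh₀ x
  letI : Algebra A H :=
    ((algebraMap (Localization.AtPrime p) H).comp (algebraMap A (Localization.AtPrime p))).toAlgebra
  haveI : IsScalarTower A (Localization.AtPrime p) H := .of_algebraMap_eq fun _ ↦ rfl
  let h₁ : H →ₐ[A] S :=
    { h₀ with
      commutes' := fun a ↦ by
        show h₀ (algebraMap (Localization.AtPrime p) H (algebraMap A _ a)) = algebraMap A S a
        rw [hh₀j, IsScalarTower.algebraMap_apply A B (Localization.AtPrime p), hj,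
          ← IsScalarTower.algebraMap_apply] }
  haveI : IsLocalHom h₁.toRingHom := ‹IsLocalHom h₀›
  letI : Algebra H S := h₀.toAlgebra
  letI : Algebra H T := (φ.toRingHom.comp h₀).toAlgebra
  haveI : IsScalarTower A H T := .of_algebraMap_eq fun a ↦ by
    show _ = φ (h₁ (algebraMap A H a))
    rw [AlgHom.commutes, AlgHom.commutes]
  haveI : IsLocalHom (algebraMap H T) := RingHom.isLocalHom_comp _ _
  have hint : ∀ x ∈ (s : Set T), IsIntegral H x := by
    intro x hx
    have hl : P x ∈ Polynomial.lifts h₀ := by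
      rw [Polynomial.lifts_iff_coeff_lifts]
      intro n
      by_cases hn : (P x).natDegree < n
      · exact ⟨0, by rw [map_zero, Polynomial.coeff_eq_zero_of_natDegree_lt hn]⟩
      · have hc : (P x).coeff n ∈ B := Algebra.subset_adjoin (Finset.mem_biUnion.2
          ⟨x, hx, Finset.mem_image.2 ⟨n, Finset.mem_range.2 (Nat.lt_succ_iff.2 (not_lt.1 hn)), rfl⟩⟩)
        exact ⟨algebraMap _ H (algebraMap B _ ⟨_, hc⟩), by rw [hh₀j, hj]; rfl⟩
    obtain ⟨Q, hQ, -, hQm⟩ := Polynomial.lifts_and_degree_eq_and_monic hl (hPm x)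
    refine ⟨Q, hQm, ?_⟩
    show Polynomial.eval₂ (φ.toRingHom.comp h₀) x Q = 0
    rw [← Polynomial.eval₂_map, hQ]
    exact hP x
  let D : Subalgebra H T := Algebra.adjoin H (s : Set T)
  haveI : Module.Finite H D := Module.Finite.iff_fg.2 (fg_adjoin_of_finite s.finite_toSet hint)
  haveI : IsLocalRing D := by
    obtain ⟨_, e, he, hne, huniq, -⟩ :=
      GrothLib.Hensel.exists_completeOrthogonalIdempotents_isLocalRing (R := H) (S := D)
    obtain ⟨m, hm⟩ := Ideal.exists_maximal D
    refine IsLocalRing.of_unique_max_ideal ⟨m, hm, fun m' hm' => ?_⟩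
    by_contra hne'
    have h1 : ∀ i, e i = 1 := fun i => by
      rcases IsLocalRing.isUnit_or_isUnit_one_sub_self ((e i : D) : T) with hu | hu
      · refine Subtype.ext (hu.mul_right_cancel ?_)
        rw [← D.coe_mul, (he.idem i).eq]
        exact (one_mul _).symm
      · exfalso
        refine hne i ?_
        have h0 : (e i : D) = 0 := Subtype.ext (hu.mul_left_cancel ?_)
        · rw [h0]; exact zero_mem _
        · show (1 - ((e i : D) : T)) * _ = _ * ((0 : D) : T)
          rw [sub_mul, one_mul, ← D.coe_mul, (he.idem i).eq, sub_self, ZeroMemClass.coe_zero, mul_zero]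
    have := he.ortho (i := ⟨m, hm⟩) (j := ⟨m', hm'⟩)
      (fun h => hne' (congrArg MaximalSpectrum.asIdeal h).symm)
    simp [h1] at this
  haveI : HenselianLocalRing D := Groth.Agent.S0505.result H D
  have hu : ∀ x : D, IsUnit (x : T) → IsUnit x := by
    intro x hx
    by_contra hxu
    haveI : ((maximalIdeal T).comap (algebraMap D T)).IsPrime := Ideal.IsPrime.comap _
    have hmax : ((maximalIdeal T).comap (algebraMap D T)).IsMaximal := by
      refine Ideal.isMaximal_of_isIntegral_of_isMaximal_comap (R := H) _ ?_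
      rw [Ideal.comap_comap, ← IsScalarTower.algebraMap_eq]
      have := ((IsLocalRing.local_hom_TFAE (algebraMap H T)).out 0 4 rfl rfl :
        IsLocalHom (algebraMap H T) ↔ _).1 ‹_›
      rw [this]
      exact maximalIdeal.isMaximal H
    have hx' : x ∈ (maximalIdeal T).comap (algebraMap D T) := by
      rw [IsLocalRing.eq_maximalIdeal hmax]; exact hxu
    exact hx' hx
  have hsub : ∀ y ∈ Algebra.EssFiniteType.subalgebra A L₁, algebraMap L₁ T y ∈ D := by
    intro y hy
    induction hy using Algebra.adjoin_induction with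
    | mem y hy => exact Algebra.subset_adjoin (Finset.mem_image.2 ⟨y, hy, rfl⟩)
    | algebraMap a =>
      rw [← IsScalarTower.algebraMap_apply A L₁ T, IsScalarTower.algebraMap_apply A H T]
      exact D.algebraMap_mem _
    | add x y _ _ h1 h2 => rw [map_add]; exact add_mem h1 h2
    | mul x y _ _ h1 h2 => rw [map_mul]; exact mul_mem h1 h2
  have hall : ∀ y : L₁, algebraMap L₁ T y ∈ D := by
    intro y
    obtain ⟨⟨c₁, c₂⟩, hc⟩ := IsLocalization.surj (Algebra.EssFiniteType.submonoid A L₁) y
    have hc2 : IsUnit (algebraMap L₁ T (c₂.1 : L₁)) := IsUnit.map _ c₂.2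
    obtain ⟨w, hw⟩ := hu ⟨_, hsub _ c₂.1.2⟩ hc2
    have hmul : algebraMap L₁ T y * algebraMap L₁ T (c₂.1 : L₁) = algebraMap L₁ T (c₁ : L₁) := by
      rw [← map_mul]; exact congrArg _ hc
    have hw' : algebraMap L₁ T (c₂.1 : L₁) * ((↑w⁻¹ : D) : T) = 1 := by
      have := congrArg Subtype.val (Units.mul_inv w)
      rw [D.coe_mul, hw] at this
      exact this
    have : algebraMap L₁ T y = algebraMap L₁ T (c₁ : L₁) * ((↑w⁻¹ : D) : T) := by
      rw [← hmul, mul_assoc, hw', mul_one]
    rw [this]
    exact mul_mem (hsub _ c₁.2) (SetLike.coe_mem _)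
  let l : L₁ →+* D := (algebraMap L₁ T).codRestrict D hall
  haveI : IsLocalHom l := ⟨fun x hx ↦ by
    have h1 : IsUnit (algebraMap L₁ T x) := hx.map (algebraMap D T)
    exact h1.of_map⟩
  obtain ⟨k, hk, -⟩ := hL₁.universal D l inferInstance
  have hid : (algebraMap D T).comp k = RingHom.id T := by
    obtain ⟨k₀, -, huniq⟩ := hL₁.universal T (algebraMap L₁ T) inferInstance
    rw [huniq (RingHom.id T) rfl]
    refine huniq _ (RingHom.ext fun x ↦ ?_)
    show ((k (algebraMap L₁ T x) : D) : T) = _
    rw [show k (algebraMap L₁ T x) = l x from RingHom.congr_fun hk x]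
    rfl
  haveI : Module.Finite H T :=
    Module.Finite.of_surjective D.val.toLinearMap fun t ↦ ⟨k t, RingHom.congr_fun hid t⟩
  let Φ : S →ₗ[H] T :=
    { toFun := φ
      map_add' := map_add φ
      map_smul' := fun c x ↦ by
        show φ (h₀ c * x) = φ (h₀ c) * φ x
        rw [map_mul] }
  have hfinS : Module.Finite H S := Module.Finite.of_injective Φ hinj
  refine of_finite h₁ hfinS ⟨Localization.AtPrime p, inferInstance, inferInstance, inferInstance, inferInstance,
    inferInstance, inferInstance, inferInstance, hH⟩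

end GrothLib.HensEFT4
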